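import Cfsg.Agent.H453.OddM.Tools
import Cfsg.Agent.H304.PslRes
import Cfsg.Agent.H845.AutUFour
import Cfsg.Agent.S5782

/-!
# TEAM ODDM (S4785), L4-RES: no maximal subgroup of `PSL_4(q)`, `q` odd, in the residual class is `Cov` (helper878)

By S5782 a maximal residual-class subgroup of `SL_4(q)`, `q` odd, has socle `A_7` or `U_4(2)` and `q = p` is a prime
not dividing `|Aut|`; but the order `p` is real in `PSL_4(q)`.
-/

set_option autoImplicit false

namespace Cfsg.Agent.H878.OddM.L4

open Matrix Cfsg Cfsg.Geo Cfsg.Agent.H304.PslT Cfsg.Agent.H453.OddM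

variable {F : Type*} [Field F]

/-- the transvection `1 + a E_12` -/
def tv (a : F) : Matrix.SpecialLinearGroup (Fin 4) F :=
  ⟨Matrix.transvection 0 1 a, Matrix.det_transvection_of_ne 0 1 (by decide) a⟩

theorem tv_mul (a b : F) : tv a * tv b = tv (a + b) :=
  Subtype.ext (Matrix.transvection_mul_transvection_same 0 1 (by decide) a b)

theorem tv_pow (a : F) (k : ℕ) : tv a ^ k = tv (k * a) := by
  induction k with
  | zero =>
    rw [pow_zero, Nat.cast_zero, zero_mul]
    exact Subtype.ext (Matrix.transvection_zero (i := (0 : Fin 4)) (j := 1)).symm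
  | succ k ih => rw [pow_succ, ih, tv_mul, Nat.cast_succ, add_mul, one_mul]

/-- the diagonal matrix `diag(-1,1,-1,1)` -/
def dg : Matrix.SpecialLinearGroup (Fin 4) F :=
  ⟨Matrix.diagonal ![-1, 1, -1, 1], by rw [Matrix.det_diagonal]; simp [Fin.prod_univ_four]⟩

theorem dg_tv (a : F) : dg * tv a = tv (-a) * dg := by
  apply Subtype.ext
  change Matrix.diagonal _ * Matrix.transvection (0 : Fin 4) 1 a =
    Matrix.transvection (0 : Fin 4) 1 (-a) * Matrix.diagonal _
  ext i j
  rw [Matrix.diagonal_mul, Matrix.mul_diagonal]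
  fin_cases i <;> fin_cases j <;>
    simp [Matrix.transvection, Matrix.single]

theorem isReal_tv (a : F) : IsReal (tv a) := by
  refine ⟨dg, ?_⟩
  rw [dg_tv, mul_inv_cancel_right, eq_inv_iff_mul_eq_one, tv_mul, neg_add_cancel]
  exact Subtype.ext (Matrix.transvection_zero (i := (0 : Fin 4)) (j := 1))

theorem tv_mem_center {a : F} (h : tv a ∈ Subgroup.center (Matrix.SpecialLinearGroup (Fin 4) F)) : a = 0 := by
  obtain ⟨r, -, hr⟩ := Matrix.SpecialLinearGroup.mem_center_iff.1 h
  have h1 := congrFun (congrFun hr 0) 1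
  simpa [tv, Matrix.transvection, Matrix.single, Matrix.one_apply] using h1.symm

/-- **the characteristic is the order of a real element of `PSL_4(F)`** -/
theorem realP_char {p : ℕ} (hp : p.Prime) [CharP F p] : RealP (Matrix.ProjectiveSpecialLinearGroup (Fin 4) F) p := by
  refine ⟨pr 4 F (tv 1), ?_, (isReal_tv 1).map _⟩
  have h1 : (pr 4 F (tv 1)) ^ p = 1 := by
    rw [← map_pow, tv_pow, CharP.cast_eq_zero, zero_mul]
    have h0 : tv (0 : F) = 1 := Subtype.ext (Matrix.transvection_zero (i := (0 : Fin 4)) (j := 1))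
    rw [h0, map_one]
  have := Fact.mk hp
  refine orderOf_eq_prime h1 fun h2 => ?_
  exact one_ne_zero (tv_mem_center ((QuotientGroup.eq_one_iff _).1 h2))

/-- **the characteristic does not divide the order of a maximal residual-class subgroup** -/
theorem not_dvd [Fintype F] (h2 : (2 : F) ≠ 0) {M : Subgroup (Matrix.ProjectiveSpecialLinearGroup (Fin 4) F)}
    (hM : IsCoatom M) (hr : InLinearResidualClass (pre M)) :
    ∃ p : ℕ, p.Prime ∧ Fintype.card F = p ∧ ¬ p ∣ Nat.card M := by
  obtain ⟨P, p, hP, hp, hF, h⟩ := S5782.result (pre M) (isMaximalIn_pre hM) hr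
  refine ⟨p, hp, hF, fun hd => ?_⟩
  have hchar : CharP F p := by
    have := Fact.mk hp
    exact charP_of_card_eq_prime hF
  have hp2 : p ≠ 2 := by
    rintro rfl
    exact h2 (by exact_mod_cast CharP.cast_eq_zero F 2)
  have h3 := hd.trans (card_dvd_mulAut (by norm_num) hP)
  rcases h with ⟨⟨e⟩, h7⟩ | ⟨⟨K, i1, i2, hK, ⟨e⟩⟩, h6⟩
  · rw [Nat.card_congr (MulAut.congr e).toEquiv] at h3
    have h4 := h3.trans Cfsg.Agent.H900.SU4.card_mulAut_alt_seven
    have h5 : p ∣ 2 ^ 4 * 3 ^ 2 * 5 * 7 := by norm_num at h4 ⊢; exact h4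
    rcases hp.dvd_mul.1 h5 with h5 | h5
    · rcases hp.dvd_mul.1 h5 with h5 | h5
      · rcases hp.dvd_mul.1 h5 with h5 | h5
        · exact hp2 ((Nat.prime_dvd_prime_iff_eq hp Nat.prime_two).1 (hp.dvd_of_dvd_pow h5))
        · have := (Nat.prime_dvd_prime_iff_eq hp Nat.prime_three).1 (hp.dvd_of_dvd_pow h5)
          omega
      · have := (Nat.prime_dvd_prime_iff_eq hp Nat.prime_five).1 h5
        omega
    · have := (Nat.prime_dvd_prime_iff_eq hp (by norm_num : Nat.Prime 7)).1 h5
      omega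
  · have h8 : (Nat.card (MulAut (PSU 4 K 2))) = 2 * 25920 := by
      rw [Cfsg.Agent.H845.AutUFour.card_mulAut_PSU hK]
      congr 1
      have h := S0280.result (F := K) (q := 2) (by rw [hK]; norm_num) 4 (by norm_num)
      simp [Finset.prod_range_succ, Nat.even_iff] at h
      omega
    rw [Nat.card_congr (MulAut.congr e).toEquiv, h8] at h3
    have h5 : p ∣ 2 ^ 7 * 3 ^ 4 * 5 := by norm_num at h3 ⊢; exact h3
    rcases hp.dvd_mul.1 h5 with h5 | h5
    · rcases hp.dvd_mul.1 h5 with h5 | h5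
      · exact hp2 ((Nat.prime_dvd_prime_iff_eq hp Nat.prime_two).1 (hp.dvd_of_dvd_pow h5))
      · have := (Nat.prime_dvd_prime_iff_eq hp Nat.prime_three).1 (hp.dvd_of_dvd_pow h5)
        omega
    · have := (Nat.prime_dvd_prime_iff_eq hp Nat.prime_five).1 h5
      omega

/-- **L4-RES**: a maximal subgroup of `PSL_4(q)`, `q` odd, in the residual class is not `Cov`. -/
theorem l4_res [Fintype F] (h2 : (2 : F) ≠ 0) {M : Subgroup (Matrix.ProjectiveSpecialLinearGroup (Fin 4) F)}
    (hM : IsCoatom M) (hr : InLinearResidualClass (pre M)) : ¬ Cov _ M := by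
  obtain ⟨p, hp, hF, h⟩ := not_dvd h2 hM hr
  have := Fact.mk hp
  have hchar : CharP F p := charP_of_card_eq_prime hF
  exact not_cov_of_prime (realP_char hp) h

end Cfsg.Agent.H878.OddM.L4
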